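import Cfsg.Agent.Lib.Chev.Parabolic

/-!
Table checks for weakly closed subgroups of `U`: separation of fundamental roots by the torus, and commutator terms
producing every root from lower ones.
-/

set_option autoImplicit false

namespace CfsgLib.Chev.WC

open Cfsg.Lie

/-- the height of a root, as a list sum -/
noncomputable def ht (D : ChevalleyDatum) (A : Aux) (r : ℕ) : ℤ :=
  ((List.range D.rank).map fun j => A.a r j).sum

/-- a torus exponent vector supported on two nodes -/
def smallInts : List ℤ := [0, 1, -1, 2, -2, 3, -3]

/-- `l ↦ a`, `m ↦ b` separates `p_i` from `p_k` -/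
noncomputable def sepVal (D : ChevalleyDatum) (A : Aux) (i k : ℕ) (big : Bool) (l m : ℕ) (a b : ℤ) : Bool :=
  decide (a * A.cart l (D.simple k) + b * A.cart m (D.simple k) = 0) &&
    (decide ((a * A.cart l (D.simple i) + b * A.cart m (D.simple i)).natAbs = 1) ||
      (big && decide ((a * A.cart l (D.simple i) + b * A.cart m (D.simple i)).natAbs = 2)))

/-- all pairs of fundamental roots are separated -/
noncomputable def sepCheck (D : ChevalleyDatum) (A : Aux) (big : Bool) : Bool :=
  (List.range D.rank).all fun i => (List.range D.rank).all fun k => (i == k) ||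
    (List.range D.rank).any fun l => (List.range D.rank).any fun m =>
      smallInts.any fun a => smallInts.any fun b => sepVal D A i k big l m a b

/-- the coefficient contributed to `r` by the pair `(p, a)` -/
noncomputable def pairCoef (D : ChevalleyDatum) (A : Aux) (big : Bool) (r p a : ℕ) : List ℤ :=
  bif decide (a < D.nroots) && ((List.range D.rank).all fun l => decide (0 ≤ A.a a l)) && !(a == p) &&
      !(a == A.neg p) then
    match (A.terms p a).filter (fun q => decide (ht D A q.1 ≤ ht D A r)) with
    | [(r₁, c, 1, 1)] => bif r₁ == r then [c] else []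
    | [(_, _, 1, 1), (r₁, c, 2, 1)] => bif big && r₁ == r then [c] else []
    | [(_, _, 1, 1), (_, _, 2, 1), (r₁, c, 3, 1)] => bif big && r₁ == r then [c] else []
    | _ => []
  else []

/-- the candidates for the second member of a pair -/
noncomputable def seconds (A : Aux) (p r : ℕ) : List ℕ :=
  [A.chRoot (A.neg p) r 1, A.chRoot (A.neg p) r 2, A.chRoot (A.neg p) r 3].filterMap id

/-- all coefficients for `r` -/
noncomputable def coefs (D : ChevalleyDatum) (A : Aux) (big : Bool) (r : ℕ) : List ℤ :=
  (List.range D.rank).flatMap fun j =>
    (seconds A (D.simple j) r).flatMap fun a => pairCoef D A big r (D.simple j) a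

/-- every positive root of height at least two is produced with unit content -/
noncomputable def genCheck (D : ChevalleyDatum) (A : Aux) (big : Bool) : Bool :=
  (List.range D.nroots).all fun r =>
    !(decide (2 ≤ ht D A r)) ||
      decide (((coefs D A big r).map Int.natAbs).foldr Nat.gcd 0 = 1)

theorem checks_of_mem {D : ChevalleyDatum}
    (hD : D ∈ [chevG2, chevB2, chevD4, chevF4, chevE6, chevE7, chevE8]) :
    ∃ (A : Aux) (big : Bool), Para D A ∧ sepCheck D A big = true ∧ genCheck D A big = true ∧
      (big = true → D ∈ [chevG2, chevB2, chevD4, chevF4]) := by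
  simp only [List.mem_cons, List.not_mem_nil, or_false] at hD
  rcases hD with rfl | rfl | rfl | rfl | rfl | rfl | rfl
  exacts [
    ⟨_, true, ⟨stdG2, by decide +kernel, by decide +kernel⟩, by decide +kernel, by decide +kernel,
      fun _ => by simp⟩,
    ⟨_, true, ⟨stdB2, by decide +kernel, by decide +kernel⟩, by decide +kernel, by decide +kernel,
      fun _ => by simp⟩,
    ⟨_, true, ⟨stdD4, by decide +kernel, by decide +kernel⟩, by decide +kernel, by decide +kernel,
      fun _ => by simp⟩,
    ⟨_, true, ⟨stdF4, by decide +kernel, by decide +kernel⟩, by decide +kernel, by decide +kernel,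
      fun _ => by simp⟩,
    ⟨_, false, ⟨stdE6, by decide +kernel, by decide +kernel⟩, by decide +kernel, by decide +kernel, nofun⟩,
    ⟨_, false, ⟨stdE7, by decide +kernel, by decide +kernel⟩, by decide +kernel, by decide +kernel, nofun⟩,
    ⟨_, false, ⟨stdE8, by decide +kernel, by decide +kernel⟩, by decide +kernel, by decide +kernel, nofun⟩]

end CfsgLib.Chev.WC
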