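import Cfsg.Agent.Lib.Chev.WC.Steps

/-!
Weakly closed subgroups of `U` are radicals of standard parabolic subgroups.
-/

set_option autoImplicit false
set_option linter.unusedSectionVars false

namespace CfsgLib.Chev.WC

open Cfsg.Lie Matrix

variable {D : ChevalleyDatum} {A : Aux} {F : Type*} [Field F]

/-- a monomial element normalising `X` that sends all positive roots of `J` to negative roots -/
theorem exists_flip (g : Good D A) {X : Subgroup (GL D.Idx F)} {J : Set ℕ}
    (hJ : ∀ j ∈ J, j < D.rank ∧ nS F g j ∈ Subgroup.normalizer (X : Set (GL D.Idx F))) :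
    ∃ n ∈ D.monomialSubgroup F, n ∈ Subgroup.normalizer (X : Set (GL D.Idx F)) ∧
      ∃ σ, Acts g n⁻¹ σ ∧ ∀ r, D.IsPosRoot r → InJ D A J r → ¬ D.IsPosRoot (σ r) := by
  classical
  let cnt : (ℕ → ℕ) → ℕ := fun τ => ((Finset.range D.nroots).filter fun r =>
    D.IsPosRoot r ∧ InJ D A J r ∧ D.IsPosRoot (τ r)).card
  let P : ℕ → Prop := fun m => ∃ n ∈ D.monomialSubgroup F,
    n ∈ Subgroup.normalizer (X : Set (GL D.Idx F)) ∧ ∃ σ, Acts g n⁻¹ σ ∧ cnt σ = m
  have hP : ∃ m, P m := by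
    obtain ⟨σ, hσ⟩ := exists_acts (F := F) g (inv_mem (one_mem (D.monomialSubgroup F)))
    exact ⟨_, 1, one_mem _, one_mem _, σ, hσ, rfl⟩
  obtain ⟨n, hn, hnX, σ, hσ, hm⟩ := Nat.find_spec hP
  have hall : ∀ k ∈ J, ¬ D.IsPosRoot (σ (D.simple k)) := by
    intro k hkJ hkpos
    obtain ⟨hk, hkX⟩ := hJ k hkJ
    have hsk := simple_pos g hk
    refine Nat.find_min hP (m := cnt (σ ∘ A.refl k)) ?_ ⟨(nS F g k)⁻¹ * n,
      mul_mem (inv_mem (nS_mem_monomial g hk)) hn, mul_mem (inv_mem hkX) hnX, σ ∘ A.refl k, ?_, rfl⟩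
    · rw [← hm]
      simp only [cnt]
      set S₀ := (Finset.range D.nroots).filter fun r =>
        D.IsPosRoot r ∧ InJ D A J r ∧ D.IsPosRoot (σ r)
      have hskJ : InJ D A J (D.simple k) := ⟨hsk.1, fun l hl hlJ => by
        rw [g.a_simple k hk l hl, if_neg fun e => hlJ (by subst e; exact hkJ)]⟩
      have hmem : D.simple k ∈ S₀ := Finset.mem_filter.2 ⟨Finset.mem_range.2 hsk.1, hsk, hskJ, hkpos⟩
      refine lt_of_le_of_lt ?_ (Finset.card_erase_lt_of_mem hmem)
      refine Finset.card_le_card_of_injOn (A.refl k) ?_ ?_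
      · intro s hs
        simp only [Finset.coe_filter, Finset.mem_range, Set.mem_setOf_eq, Function.comp_apply] at hs
        obtain ⟨hslt, hsp, hsJ, hsn⟩ := hs
        have hne : s ≠ D.simple k := by
          rintro rfl
          rw [refl_simple g hk, hσ.map.map_neg g hsk.1] at hsn
          exact not_pos_neg g hkpos hsn
        obtain ⟨h3, h4⟩ := refl_pos g hk hsp hne
        exact Finset.mem_coe.2 (Finset.mem_erase.2 ⟨h4, Finset.mem_filter.2 ⟨Finset.mem_range.2 h3.1, h3,
          ⟨h3.1, fun l hl hlJ => by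
            rw [g.a_refl k hk s hslt l hl, hsJ.2 l hl hlJ, if_neg fun e => hlJ (by subst e; exact hkJ),
              sub_zero]⟩, hsn⟩⟩)
      · intro s hs s' hs' e
        simp only [Finset.coe_filter, Finset.mem_range, Set.mem_setOf_eq] at hs hs'
        exact refl_inj g hk hs.1 hs'.1 e
    · rw [_root_.mul_inv_rev, inv_inv]
      exact hσ.mul (acts_nS g hk)
  refine ⟨n, hn, hnX, σ, hσ, fun r hr hrJ hpos => ?_⟩
  refine not_pos_neg g hpos ((g.pos_iff _ (g.neg_lt _ hpos.1)).2 fun l => ?_)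
  rw [g.a_neg _ hpos.1]
  by_cases hl : l < D.rank
  · rw [simple_eq_sum g hσ.map hr.1 l hl, neg_nonneg]
    refine Finset.sum_nonpos fun k hk => ?_
    have hk := Finset.mem_range.1 hk
    by_cases hkJ : k ∈ J
    · have hlt := hσ.map.1 _ (g.simple_lt k hk)
      exact mul_nonpos_of_nonneg_of_nonpos ((g.pos_iff r hr.1).1 hr k)
        ((g.negRoot_iff _ hlt).1 (isNeg_of_not_pos g hlt (hall k hkJ)) l)
    · rw [hrJ.2 k hk hkJ, zero_mul]
  · rw [g.a_zero _ hpos.1 l (not_lt.1 hl), neg_zero]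

/-- **weakly closed subgroups of `U`** -/
theorem weakly_closed [Finite F] (h : Para D A) {big : Bool} (hsep : sepCheck D A big = true)
    (hgen : genCheck D A big = true) (hq : 3 ≤ Nat.card F) (hbig : big = true → 4 ≤ Nat.card F)
    (X : Subgroup (GL D.Idx F)) (hXU : X ≤ D.posUnipotent F)
    (hwc : ∀ g ∈ D.group F, X.map (MulAut.conj g).toMonoidHom ≤ D.posUnipotent F →
      X.map (MulAut.conj g).toMonoidHom = X) :
    ∃ J : Set ℕ, (∀ j ∈ J, j < D.rank) ∧ X = D.unipotentRadical F J := by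
  classical
  have g := h.std.good
  have hfix : ∀ y ∈ D.group F, (∀ z ∈ X, y * z * y⁻¹ ∈ D.posUnipotent F) → ∀ z ∈ X, y * z * y⁻¹ ∈ X := by
    intro y hy hyU z hz
    have hle : X.map (MulAut.conj y).toMonoidHom ≤ D.posUnipotent F := by
      rintro _ ⟨w, hw, rfl⟩
      exact hyU w hw
    exact (hwc y hy hle).le ⟨z, hz, rfl⟩
  have hXB : ∀ b ∈ D.borelSubgroup F, ∀ z ∈ X, b * z * b⁻¹ ∈ X := by
    refine fun b hb => hfix b (borel_le_group g hb) fun z hz => ?_
    obtain ⟨u, hu, c, rfl⟩ := (mem_borel_iff g).1 hb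
    have := mul_mem (mul_mem hu (tor_conj_posUnipotent g c (hXU hz))) (inv_mem hu)
    simpa [mul_assoc] using this
  let J : Set ℕ := {j | j < D.rank ∧ nS F g j ∈ Subgroup.normalizer (X : Set (GL D.Idx F))}
  have hne : ∀ i < D.rank, i ∉ J → ∃ y ∈ X, y ∉ UP F g (posBut D i) := by
    intro i hi hiJ
    by_contra hcon
    push Not at hcon
    refine hiJ ⟨hi, Subgroup.mem_normalizer_iff.2 fun z => ⟨fun hz => ?_, fun hz => ?_⟩⟩
    · exact hfix _ (nS_mem_group g i) (fun w hw => UP_posBut_le g i (nS_conj_posBut h.std hi (hcon w hw))) z hz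
    · have hle : X.map (MulAut.conj (nS F g i)).toMonoidHom ≤ D.posUnipotent F := by
        rintro _ ⟨w, hw, rfl⟩
        exact UP_posBut_le g i (nS_conj_posBut h.std hi (hcon w hw))
      obtain ⟨w, hw, e⟩ : nS F g i * z * (nS F g i)⁻¹ ∈ X.map (MulAut.conj (nS F g i)).toMonoidHom :=
        (hwc _ (nS_mem_group g i) hle).ge hz
      have e' : w = z := by simpa using e
      exact e' ▸ hw
  obtain ⟨n, hn, hnX, σ, hσ, hflip⟩ := exists_flip g (X := X) (J := J) fun j hj => hj
  have hXJ : X ≤ UP F g (OutJ D A J) := fun y hy => by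
    have hy' : n⁻¹ * y * n ∈ X := (Subgroup.mem_normalizer_iff''.1 hnX y).1 hy
    refine UP_le (fun r t hr => xG_mem_UP g ⟨hr.1, ?_⟩ t) (inter_conj h.std hσ (hXU hy) (hXU hy'))
    by_contra hcon
    push Not at hcon
    exact hflip r hr.1 ⟨hr.1.1, fun l hl hlJ =>
      le_antisymm (hcon l hl hlJ) ((g.pos_iff r hr.1.1).1 hr.1 l)⟩ hr.2
  have key : ∀ k : ℕ, 1 ≤ k → UP F g (OutJ D A J) ≤ X ⊔ UP F g (Lvl D A J k) := by
    intro k hk
    induction k, hk using Nat.le_induction with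
    | base =>
      refine le_trans (UP_le fun r t hr => xG_mem_UP g ⟨hr, ?_⟩ t) le_sup_right
      have := one_le_ht g hr.1
      omega
    | succ k hk ih =>
      refine ih.trans (sup_le le_sup_left (UP_le fun r t hr => ?_))
      by_cases hlt : (k : ℤ) < ht D A r
      · exact (le_sup_right : _ ≤ X ⊔ _) (xG_mem_UP g ⟨hr.1, by push_cast; omega⟩ t)
      have hhtk : ht D A r = k := le_antisymm (not_lt.1 hlt) hr.2
      rcases eq_or_lt_of_le hk with e | hk2
      · subst e
        obtain ⟨i, hi, rfl⟩ := eq_simple_of_ht g hr.1.1 (by simpa using hhtk)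
        have hiJ : i ∉ J := by
          obtain ⟨-, j, hj, hjJ, hjp⟩ := hr.1
          rw [g.a_simple i hi j hj] at hjp
          split_ifs at hjp with e
          · exact e ▸ hjJ
          · exact absurd hjp (lt_irrefl _)
        exact simple_mem h hsep hq hbig hXB hXJ hi hiJ (hne i hi hiJ) t
      · exact step_root h hgen hbig hXU hXB hk2 ih hr.1 hhtk t
  refine ⟨J, fun j hj => hj.1, ?_⟩
  rw [radical_eq h]
  refine le_antisymm hXJ ((key (∑ r ∈ Finset.range D.nroots, (ht D A r).natAbs + 1) (by omega)).trans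
    (sup_le le_rfl (UP_le fun r t hr => ?_)))
  have h1 := Finset.single_le_sum (f := fun r => (ht D A r).natAbs) (fun _ _ => Nat.zero_le _)
    (Finset.mem_range.2 hr.1.1.1)
  have := hr.2
  omega

end CfsgLib.Chev.WC
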