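import Cfsg.Agent.Lib.Chev.WC.Checks
import Cfsg.Agent.Lib.Chev.DefectRoots

/-!
Subgroups of `U` normalised by `B` that contain the radical `U_J`.
-/

set_option autoImplicit false
set_option linter.unusedSectionVars false
set_option linter.style.haveILetI false

namespace CfsgLib.Chev.WC

open Cfsg.Lie Matrix

variable {D : ChevalleyDatum} {A : Aux} {F : Type*} [Field F]

theorem ht_eq (r : ℕ) : ht D A r = ∑ j ∈ Finset.range D.rank, A.a r j := sum_map_range _ _

theorem ht_lin {r s u : ℕ} (i k : ℤ)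
    (e : ∀ j < D.rank, A.a u j = i * A.a r j + k * A.a s j) : ht D A u = i * ht D A r + k * ht D A s := by
  simp only [ht_eq, Finset.mul_sum, ← Finset.sum_add_distrib]
  exact Finset.sum_congr rfl fun j hj => e j (Finset.mem_range.1 hj)

theorem ht_simple (g : Good D A) {i : ℕ} (hi : i < D.rank) : ht D A (D.simple i) = 1 := by
  rw [ht_eq, Finset.sum_eq_single i]
  · rw [g.a_simple i hi i hi, if_pos rfl]
  · intro j hj hji; rw [g.a_simple i hi j (Finset.mem_range.1 hj), if_neg hji]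
  · intro h; exact absurd (Finset.mem_range.2 hi) h

theorem one_le_ht (g : Good D A) {r : ℕ} (hr : D.IsPosRoot r) : 1 ≤ ht D A r := by
  have hn := (g.pos_iff r hr.1).1 hr
  by_contra hlt
  have h0 : ∑ j ∈ Finset.range D.rank, A.a r j = 0 :=
    le_antisymm (by rw [← ht_eq]; omega) (Finset.sum_nonneg fun j _ => hn j)
  refine g.neg_ne r hr.1 (g.a_inj _ (g.neg_lt r hr.1) r hr.1 fun j hj => ?_)
  rw [g.a_neg r hr.1,
    (Finset.sum_eq_zero_iff_of_nonneg fun j _ => hn j).1 h0 j (Finset.mem_range.2 hj), neg_zero]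

theorem eq_simple_of_ht (g : Good D A) {r : ℕ} (hr : D.IsPosRoot r) (h : ht D A r = 1) :
    ∃ i < D.rank, r = D.simple i := by
  have hn := (g.pos_iff r hr.1).1 hr
  obtain ⟨i, hi, hpos⟩ : ∃ i < D.rank, 0 < A.a r i := by
    by_contra hcon
    push Not at hcon
    have : ∑ j ∈ Finset.range D.rank, A.a r j = 0 :=
      Finset.sum_eq_zero fun j hj => le_antisymm (hcon j (Finset.mem_range.1 hj)) (hn j)
    rw [← ht_eq] at this; omega
  refine ⟨i, hi, g.a_inj r hr.1 _ (g.simple_lt i hi) fun j hj => ?_⟩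
  rw [ht_eq, ← Finset.add_sum_erase _ _ (Finset.mem_range.2 hi)] at h
  have hrest : 0 ≤ ∑ j ∈ (Finset.range D.rank).erase i, A.a r j := Finset.sum_nonneg fun j _ => hn j
  rw [g.a_simple i hi j hj]
  split_ifs with e
  · subst e; omega
  · exact (Finset.sum_eq_zero_iff_of_nonneg fun j _ => hn j).1 (by omega) j
      (Finset.mem_erase.2 ⟨e, Finset.mem_range.2 hj⟩)

/-- the coordinates of a term with positive exponents -/
theorem term_pos (g : Good D A) {s r u : ℕ} (hs : D.IsPosRoot s) (hr : D.IsPosRoot r)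
    (hu : u < D.nroots) {i k : ℕ} (hk : 1 ≤ k)
    (e : ∀ j < D.rank, A.a u j = (i : ℤ) * A.a s j + (k : ℤ) * A.a r j) :
    D.IsPosRoot u ∧ (∀ j < D.rank, A.a r j ≤ A.a u j) ∧ (1 ≤ i → ∀ j < D.rank, A.a s j ≤ A.a u j) ∧
      (i : ℤ) + k ≤ ht D A u ∧ (1 ≤ i → ht D A r + 1 ≤ ht D A u) := by
  have h1 := (g.pos_iff s hs.1).1 hs
  have h2 := (g.pos_iff r hr.1).1 hr
  have hge : ∀ j < D.rank, A.a r j ≤ A.a u j := fun j hj => by
    rw [e j hj]
    have hk' : (1 : ℤ) ≤ k := by exact_mod_cast hk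
    nlinarith [mul_nonneg (Int.natCast_nonneg i) (h1 j), mul_le_mul_of_nonneg_right hk' (h2 j)]
  refine ⟨(g.pos_iff u hu).2 fun j => ?_, hge, fun hi j hj => ?_, ?_, fun hi => ?_⟩
  · by_cases hj : j < D.rank
    · exact (h2 j).trans (hge j hj)
    · rw [g.a_zero u hu j (not_lt.1 hj)]
  · rw [e j hj]
    have hi' : (1 : ℤ) ≤ i := by exact_mod_cast hi
    nlinarith [mul_nonneg (Int.natCast_nonneg k) (h2 j), mul_le_mul_of_nonneg_right hi' (h1 j)]
  · rw [ht_lin _ _ e]
    nlinarith [one_le_ht g hs, one_le_ht g hr]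
  · rw [ht_lin _ _ e]
    have hi' : (1 : ℤ) ≤ i := by exact_mod_cast hi
    have hk' : (1 : ℤ) ≤ k := by exact_mod_cast hk
    nlinarith [one_le_ht g hs, one_le_ht g hr]

/-- a set of positive roots closed upwards -/
def Upward (D : ChevalleyDatum) (A : Aux) (P : ℕ → Prop) : Prop :=
  (∀ r, P r → D.IsPosRoot r) ∧
    ∀ s r u, D.IsPosRoot s → P r → u < D.nroots → ∀ i k : ℕ, 1 ≤ i → 1 ≤ k →
      (∀ j < D.rank, A.a u j = (i : ℤ) * A.a s j + (k : ℤ) * A.a r j) → P u

theorem upward_normal (h : Std D A) {P : ℕ → Prop} (hP : Upward D A P) {y z : GL D.Idx F}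
    (hy : y ∈ D.posUnipotent F) (hz : z ∈ UP F h.good P) : y * z * y⁻¹ ∈ UP F h.good P := by
  have g := h.good
  suffices D.posUnipotent F ≤ Subgroup.normalizer (UP F h.good P : Set (GL D.Idx F)) from (this hy z).1 hz
  rw [posUnipotent_eq g, Subgroup.closure_le]
  rintro y ⟨s, t, hs, rfl⟩
  have hK : D.rootSubgroup F s ≤ Subgroup.normalizer (UP F h.good P : Set (GL D.Idx F)) :=
    mem_normalizer_UP fun y hy r u hr => by
      obtain ⟨v, rfl⟩ := (mem_rootSubgroup_iff g).1 hy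
      by_cases hrs : r = s
      · subst hrs
        rw [xG_inv, xG_add, xG_add]
        exact xG_mem_UP g hr _
      · exact conj_xG_mem h hs.1 (hP.1 r hr).1 hrs (fun e => not_pos_neg g hs (e ▸ hP.1 r hr)) hr
          (fun w hw i k hi hk e => hP.2 s r w hs hr hw i k hi hk e) v u
  exact hK (xG_mem_rootSubgroup g s t)

/-- roots outside `J` of height at least `k` -/
def Lvl (D : ChevalleyDatum) (A : Aux) (J : Set ℕ) (k : ℕ) (r : ℕ) : Prop :=
  OutJ D A J r ∧ (k : ℤ) ≤ ht D A r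

theorem outJ_up (g : Good D A) {J : Set ℕ} {s r u : ℕ} (hs : D.IsPosRoot s) (hr : D.IsPosRoot r)
    (hu : u < D.nroots) {i k : ℕ} (hi : 1 ≤ i) (hk : 1 ≤ k)
    (e : ∀ j < D.rank, A.a u j = (i : ℤ) * A.a s j + (k : ℤ) * A.a r j)
    (hor : OutJ D A J s ∨ OutJ D A J r) : OutJ D A J u := by
  obtain ⟨hp, hr', hs', -, -⟩ := term_pos g hs hr hu hk e
  rcases hor with ⟨-, j, hj, hjJ, hjp⟩ | ⟨-, j, hj, hjJ, hjp⟩
  · exact ⟨hp, j, hj, hjJ, hjp.trans_le (hs' hi j hj)⟩
  · exact ⟨hp, j, hj, hjJ, hjp.trans_le (hr' j hj)⟩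

theorem upward_lvl (g : Good D A) (J : Set ℕ) (k : ℕ) : Upward D A (Lvl D A J k) := by
  refine ⟨fun r hr => hr.1.1, fun s r u hs hr hu i l hi hl e => ⟨?_, ?_⟩⟩
  · exact outJ_up g hs hr.1.1 hu hi hl e (Or.inr hr.1)
  · have := (term_pos g hs hr.1.1 hu hl e).2.2.2.2 hi
    have := hr.2
    omega

/-- commutators of a root element of level `k` lie in level `k + 1` -/
theorem lvl_comm (h : Std D A) {J : Set ℕ} {k r : ℕ} (hr : Lvl D A J k r) (t : F) {w : GL D.Idx F}
    (hw : w ∈ D.posUnipotent F) :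
    xG h.good r t * w * (xG h.good r t)⁻¹ * w⁻¹ ∈ UP F h.good (Lvl D A J (k + 1)) := by
  have g := h.good
  set P : ℕ → Prop := fun u => u = r ∨ Lvl D A J (k + 1) u with hPdef
  set V := UP F g (Lvl D A J (k + 1))
  have hV := fun {y z : GL D.Idx F} => upward_normal (F := F) (y := y) (z := z) h (upward_lvl g J (k + 1))
  rw [posUnipotent_eq g] at hw
  induction hw using Subgroup.closure_induction with
  | one => simp [one_mem]
  | mul a b ha hb iha ihb =>
    rw [show xG g r t * (a * b) * (xG g r t)⁻¹ * (a * b)⁻¹ =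
      (xG g r t * a * (xG g r t)⁻¹ * a⁻¹) * (a * (xG g r t * b * (xG g r t)⁻¹ * b⁻¹) * a⁻¹) by group]
    exact mul_mem iha (hV (by rw [posUnipotent_eq g]; exact ha) ihb)
  | inv a ha iha =>
    rw [show xG g r t * a⁻¹ * (xG g r t)⁻¹ * a⁻¹⁻¹ =
      a⁻¹ * (xG g r t * a * (xG g r t)⁻¹ * a⁻¹)⁻¹ * a⁻¹⁻¹ by group]
    exact hV (inv_mem (by rw [posUnipotent_eq g]; exact ha)) (inv_mem iha)
  | mem a ha =>
    obtain ⟨s, u, hs, rfl⟩ := ha
    by_cases hsr : r = s
    · subst hsr
      rw [xG_inv, xG_inv, xG_add, xG_add, xG_add, show t + u + -t + -u = 0 by ring, xG_zero]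
      exact one_mem _
    have hterm : ∀ w < D.nroots, ∀ i l : ℕ, 1 ≤ i → 1 ≤ l →
        (∀ j < D.rank, A.a w j = (i : ℤ) * A.a r j + (l : ℤ) * A.a s j) → Lvl D A J (k + 1) w := by
      intro w hw i l hi hl e
      refine ⟨outJ_up g hr.1.1 hs hw hi hl e (Or.inl hr.1), ?_⟩
      have h1 := (term_pos g hs hr.1.1 hw hi (i := l) (k := i) (fun j hj => by rw [e j hj]; ring)).2.2.2.2 hl
      have := hr.2
      push_cast
      omega
    -- the commutator formula
    set W : GL D.Idx F := ((tword A r s (-t) u).map fun p => xG g p.1 p.2).prod with hW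
    have hWval : (W : Matrix D.Idx D.Idx F) = D.wordMat F (tword A r s (-t) u) := by
      rw [hW]
      induction tword A r s (-t) u with
      | nil => simp [wordMat_nil]
      | cons p w ih => rw [List.map_cons, List.prod_cons, Units.val_mul, wordMat_cons, ih, xG_val]
    have hWmem : W ∈ V := by
      refine list_prod_mem fun y hy => ?_
      obtain ⟨p, hp, rfl⟩ := List.mem_map.1 hy
      obtain ⟨q, hq, rfl⟩ := List.mem_map.1 hp
      obtain ⟨h1, h2, h3, h4⟩ := terms_mem g hr.1.1.1 hs.1 hq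
      exact xG_mem_UP g (hterm q.1 h1 _ _ h2 h3 h4) _
    have e : xG g s u * xG g r (-t) = xG g r (-t) * xG g s u * W := by
      apply Units.ext
      simp only [Units.val_mul, xG_val, hWval]
      exact commF_all h hr.1.1.1 hs.1 (Ne.symm hsr)
        (fun e => not_pos_neg g hr.1.1 (e ▸ hs)) (-t) u
    have e2 : xG g r t * xG g s u * (xG g r t)⁻¹ * (xG g s u)⁻¹ = xG g s u * W * (xG g s u)⁻¹ := by
      rw [xG_inv g r t, mul_assoc (xG g r t), e, ← mul_assoc (xG g r t), ← mul_assoc (xG g r t),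
        xG_add, add_neg_cancel, xG_zero, one_mul]
    rw [e2]
    exact hV (xG_mem_posUnipotent g hs u) hWmem

/-- scalars generated by squares -/
theorem add_closed_eq [Finite F] {S : AddSubgroup F} {c : F} (hc : c ≠ 0) (h : ∀ u : F, u ≠ 0 → u ^ 2 * c ∈ S) :
    ∀ x : F, x ∈ S := by
  haveI := Fintype.ofFinite F
  intro x
  have hsq : ∀ u : F, u ^ 2 * c ∈ S := fun u => by
    by_cases hu : u = 0
    · simp [hu, S.zero_mem]
    · exact h u hu
  by_cases h2 : (2 : F) = 0
  · haveI : CharP F 2 := CharTwo.of_one_ne_zero_of_two_eq_zero one_ne_zero h2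
    obtain ⟨u, hu⟩ := surjective_frobenius F 2 (x / c)
    have := hsq u
    rw [frobenius_def] at hu
    rwa [hu, div_mul_cancel₀ x hc] at this
  · have h4 : (4 : F) ≠ 0 := by rw [show (4 : F) = 2 * 2 by norm_num]; exact mul_ne_zero h2 h2
    have := S.sub_mem (hsq ((x / c / 4) + 1)) (hsq ((x / c / 4) - 1))
    rwa [show (x / c / 4 + 1) ^ 2 * c - (x / c / 4 - 1) ^ 2 * c = x by field_simp; ring] at this

theorem gcd_foldr_ne_zero : ∀ L : List ℤ, (L.map Int.natAbs).foldr Nat.gcd 0 = 1 →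
    ∃ c ∈ L, (c : F) ≠ 0 := by
  intro L hL
  by_contra hcon
  push Not at hcon
  obtain ⟨p, hp⟩ := CharP.exists F
  haveI := hp
  have key : ∀ L : List ℤ, (∀ c ∈ L, (c : F) = 0) → p ∣ (L.map Int.natAbs).foldr Nat.gcd 0 := by
    intro L hL
    induction L with
    | nil => simp
    | cons c L ih =>
      simp only [List.map_cons, List.foldr_cons]
      refine Nat.dvd_gcd ?_ (ih fun d hd => hL d (by simp [hd]))
      exact Int.natCast_dvd.1 ((CharP.intCast_eq_zero_iff F p c).1 (hL c (by simp)))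
  have := key L hcon
  rw [hL, Nat.dvd_one] at this
  exact CharP.char_ne_one F p this

section Grow

variable (h : Para D A) {X : Subgroup (GL D.Idx F)} {J : Set ℕ}

/-- the torus moves root coordinates -/
theorem exists_sep [Finite F] {big : Bool} (hsep : sepCheck D A big = true)
    (hq : 3 ≤ Nat.card F) (hbig : big = true → 4 ≤ Nat.card F) {i k : ℕ} (hi : i < D.rank) (hk : k < D.rank)
    (hik : i ≠ k) : ∃ c : Fin D.rank → Fˣ, chi D A c (D.simple k) = 1 ∧ chi D A c (D.simple i) ≠ 1 := by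
  classical
  haveI := Fintype.ofFinite F
  simp only [sepCheck, List.all_eq_true, List.mem_range, Bool.or_eq_true, beq_iff_eq, List.any_eq_true,
    sepVal, Bool.and_eq_true, decide_eq_true_eq] at hsep
  obtain ⟨l, hl, m, hm, a, -, b, -, h0, hd⟩ := (hsep i hi k hk).resolve_left hik
  obtain ⟨w, hw⟩ := IsCyclic.exists_ofOrder_eq_natCard (α := Fˣ)
  rw [Nat.card_units] at hw
  refine ⟨Pi.mulSingle ⟨l, hl⟩ (w ^ a) * Pi.mulSingle ⟨m, hm⟩ (w ^ b), ?_, ?_⟩
  all_goals
    have hchi : ∀ r, chi D A (Pi.mulSingle (⟨l, hl⟩ : Fin D.rank) (w ^ a) * Pi.mulSingle ⟨m, hm⟩ (w ^ b)) r =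
        w ^ (a * A.cart l r + b * A.cart m r) := fun r => by
      rw [chi_mul, _root_.zpow_add, _root_.zpow_mul, _root_.zpow_mul]
      congr 1 <;>
      · rw [chi, Finset.prod_eq_single_of_mem _ (Finset.mem_univ _) fun j _ hj => by
            rw [Pi.mulSingle_eq_of_ne hj, _root_.one_zpow]]
        rw [Pi.mulSingle_eq_same]
    rw [hchi]
  · rw [h0, zpow_zero]
  · intro h1
    have h2 : (Nat.card F - 1) ∣ (a * A.cart l (D.simple i) + b * A.cart m (D.simple i)).natAbs := by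
      rw [← hw]; exact Int.natCast_dvd.1 (orderOf_dvd_iff_zpow_eq_one.2 h1)
    rcases hd with hd | ⟨hb, hd⟩
    · rw [hd, Nat.dvd_one] at h2; omega
    · rw [hd] at h2
      have := Nat.le_of_dvd two_pos h2
      have := hbig hb
      omega

/-- fundamental roots outside `J` -/
theorem simple_mem [Finite F] {big : Bool} (hsep : sepCheck D A big = true)
    (hq : 3 ≤ Nat.card F) (hbig : big = true → 4 ≤ Nat.card F)
    (hXB : ∀ b ∈ D.borelSubgroup F, ∀ z ∈ X, b * z * b⁻¹ ∈ X)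
    (hXJ : X ≤ UP F h.std.good (OutJ D A J)) {i : ℕ} (hi : i < D.rank) (hiJ : i ∉ J)
    (hne : ∃ y ∈ X, y ∉ UP F h.std.good (posBut D i)) (t : F) :
    xG h.std.good (D.simple i) t ∈ X ⊔ UP F h.std.good (Lvl D A J 2) := by
  classical
  have g := h.std.good
  let R : Finset ℕ → Subgroup (GL D.Idx F) := fun S =>
    UP F g (fun r => OutJ D A J r ∧ (2 ≤ ht D A r ∨ ∃ k ∈ S, r = D.simple k))
  have hRn : ∀ S, ∀ {y z : GL D.Idx F}, y ∈ D.posUnipotent F → z ∈ R S → y * z * y⁻¹ ∈ R S := by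
    intro S y z
    refine upward_normal h.std ⟨fun r hr => hr.1.1, fun s r u hs hr hu a b ha hb e =>
      ⟨outJ_up g hs hr.1.1 hu ha hb e (Or.inr hr.1), Or.inl ?_⟩⟩
    have h1 := (term_pos g hs hr.1.1 hu hb e).2.2.2.2 ha
    have := one_le_ht g hr.1.1
    omega
  have hsplit : ∀ (S : Finset ℕ) (k : ℕ), k < D.rank → ∀ z ∈ R (insert k S),
      ∃ b, ∃ w ∈ R S, z = xG g (D.simple k) b * w := by
    intro S k hk z hz
    induction hz using Subgroup.closure_induction with
    | one => exact ⟨0, 1, one_mem _, by rw [xG_zero, mul_one]⟩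
    | mul a b _ _ iha ihb =>
      obtain ⟨a', w, hw, rfl⟩ := iha
      obtain ⟨b', w', hw', rfl⟩ := ihb
      refine ⟨a' + b', (xG g (D.simple k) b')⁻¹ * w * xG g (D.simple k) b' * w',
        mul_mem ?_ hw', by rw [← xG_add]; group⟩
      have := hRn S (inv_mem (xG_mem_posUnipotent g (simple_pos g hk) b')) hw
      rwa [inv_inv] at this
    | inv a _ iha =>
      obtain ⟨a', w, hw, rfl⟩ := iha
      refine ⟨-a', xG g (D.simple k) a' * w⁻¹ * (xG g (D.simple k) a')⁻¹,
        hRn S (xG_mem_posUnipotent g (simple_pos g hk) a') (inv_mem hw), ?_⟩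
      rw [← xG_inv]; group
    | mem a ha =>
      obtain ⟨r, u, ⟨hr, hor⟩, rfl⟩ := ha
      by_cases e : r = D.simple k
      · exact ⟨u, 1, one_mem _, by rw [e, mul_one]⟩
      · refine ⟨0, _, xG_mem_UP g ⟨hr, hor.imp_right fun ⟨l, hl, hle⟩ => ⟨l, ?_, hle⟩⟩ u,
          by rw [xG_zero, one_mul]⟩
        exact (Finset.mem_insert.1 hl).resolve_left fun e' => e (e' ▸ hle)
  -- shrinking the support of an element
  have shrink : ∀ (S : Finset ℕ), (∀ k ∈ S, k < D.rank ∧ k ≠ i) → ∀ y ∈ X, ∀ c : F, c ≠ 0 →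
      ∀ z ∈ R S, y = xG g (D.simple i) c * z →
        ∃ y ∈ X, ∃ c : F, c ≠ 0 ∧ ∃ z ∈ R ∅, y = xG g (D.simple i) c * z := by
    intro S
    induction S using Finset.induction_on with
    | empty => exact fun _ y hy c hc z hz e => ⟨y, hy, c, hc, z, hz, e⟩
    | insert k S hkS ih =>
      intro hS y hy c hc z hz e
      obtain ⟨hk, hki⟩ := hS k (Finset.mem_insert_self _ _)
      obtain ⟨b, w, hw, rfl⟩ := hsplit S k hk z hz
      obtain ⟨d, hd1, hd2⟩ := exists_sep (F := F) hsep hq hbig hi hk (Ne.symm hki)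
      set H := tor D A d with hH
      have hy' : H * y * H⁻¹ * y⁻¹ ∈ X := mul_mem (hXB H (tor_mem_borel g d) y hy) (inv_mem hy)
      set χ : F := (chi D A d (D.simple i) : F)
      have hwR : H * w * H⁻¹ ∈ R S := by
        refine conj_UP_le (acts_tor g d) (fun r hr => hr.1.1.1) (fun r u hr => xG_mem_UP g hr u) hw
      set v := xG g (D.simple i) c * (xG g (D.simple k) b * (H * w * H⁻¹ * w⁻¹) *
        (xG g (D.simple k) b)⁻¹) * (xG g (D.simple i) c)⁻¹
      have hv : v ∈ R S := hRn S (xG_mem_posUnipotent g (simple_pos g hi) c)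
        (hRn S (xG_mem_posUnipotent g (simple_pos g hk) b) (mul_mem hwR (inv_mem hw)))
      refine ih (fun l hl => hS l (Finset.mem_insert_of_mem hl)) _ hy' (χ * c - c) ?_ v hv ?_
      · rw [sub_ne_zero]
        intro h1
        exact hd2 (Units.ext (mul_right_cancel₀ hc (h1.trans (one_mul c).symm)))
      · have e1 : H * xG g (D.simple i) c * H⁻¹ = xG g (D.simple i) (χ * c) :=
          tor_conj_xG g d (g.simple_lt i hi) c
        have e2 : H * xG g (D.simple k) b * H⁻¹ = xG g (D.simple k) b := by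
          rw [hH, tor_conj_xG g d (g.simple_lt k hk), hd1, Units.val_one, one_mul]
        calc H * y * H⁻¹ * y⁻¹
            = (H * xG g (D.simple i) c * H⁻¹) * (H * xG g (D.simple k) b * H⁻¹) * (H * w * H⁻¹ * w⁻¹) *
                (xG g (D.simple k) b)⁻¹ * (xG g (D.simple i) c)⁻¹ := by rw [e]; group
          _ = xG g (D.simple i) (χ * c) * (xG g (D.simple i) c)⁻¹ * v := by rw [e1, e2]; simp only [v]; group
          _ = _ := by rw [xG_inv g _ c, xG_add, ← sub_eq_add_neg]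
  obtain ⟨y, hy, hyne⟩ := hne
  set S₀ : Finset ℕ := (Finset.range D.rank).erase i
  have hall : UP F g (OutJ D A J) ≤ R (insert i S₀) := UP_le fun r u hr => xG_mem_UP g ⟨hr, by
    by_cases h2 : 2 ≤ ht D A r
    · exact Or.inl h2
    · obtain ⟨l, hl, rfl⟩ := eq_simple_of_ht g hr.1 (by have := one_le_ht g hr.1; omega)
      refine Or.inr ⟨l, ?_, rfl⟩
      simp only [S₀, Finset.mem_insert, Finset.mem_erase, Finset.mem_range]
      tauto⟩ u
  obtain ⟨c, z, hz, rfl⟩ := hsplit S₀ i hi y (hall (hXJ hy))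
  have hc : c ≠ 0 := by
    rintro rfl
    refine hyne ?_
    rw [xG_zero, one_mul]
    have hle : R S₀ ≤ UP F g (posBut D i) := UP_le fun r u hr => xG_mem_UP g ⟨hr.1.1, fun e => by
      rcases hr.2 with h2 | ⟨l, hl, hle⟩
      · rw [e, ht_simple g hi] at h2; omega
      · obtain ⟨hli, hlr⟩ := Finset.mem_erase.1 hl
        have h1 : A.a (D.simple l) i = 1 := by rw [← hle, e, g.a_simple i hi i hi, if_pos rfl]
        rw [g.a_simple l (Finset.mem_range.1 hlr) i hi, if_neg (Ne.symm hli)] at h1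
        omega⟩ u
    exact hle hz
  obtain ⟨y', hy', c', hc', z', hz', e'⟩ := shrink S₀ (fun l hl => by
    obtain ⟨h1, h2⟩ := Finset.mem_erase.1 hl
    exact ⟨Finset.mem_range.1 h2, h1⟩) _ hy c hc z hz rfl
  -- all multiples
  set M := X ⊔ UP F g (Lvl D A J 2)
  have hM : xG g (D.simple i) c' ∈ M := by
    rw [show xG g (D.simple i) c' = y' * z'⁻¹ by rw [e']; group]
    refine mul_mem ((le_sup_left : X ≤ M) hy') (inv_mem ((le_sup_right : _ ≤ M) ?_))
    have hle : R ∅ ≤ UP F g (Lvl D A J 2) := UP_le fun r u hr => xG_mem_UP g ⟨hr.1,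
      hr.2.resolve_right fun ⟨l, hl, _⟩ => absurd hl (Finset.notMem_empty l)⟩ u
    exact hle hz'
  let T : AddSubgroup F :=
    { carrier := {u | xG g (D.simple i) u ∈ M}
      zero_mem' := by simp [xG_zero, one_mem]
      add_mem' := fun {a b} ha hb => by
        show xG g (D.simple i) (a + b) ∈ M
        rw [← xG_add]; exact mul_mem ha hb
      neg_mem' := fun {a} ha => by
        show xG g (D.simple i) (-a) ∈ M
        rw [← xG_inv]; exact inv_mem ha }
  refine add_closed_eq (S := T) hc' (fun u hu => ?_) t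
  show xG g (D.simple i) (u ^ 2 * c') ∈ M
  set d : Fin D.rank → Fˣ := Pi.mulSingle ⟨i, hi⟩ (Units.mk0 u hu)
  have hd : chi D A d (D.simple i) = Units.mk0 u hu ^ (2 : ℤ) := by
    rw [chi, Finset.prod_eq_single_of_mem _ (Finset.mem_univ ⟨i, hi⟩) fun j _ hj => by simp [d, hj],
      g.cart_simple i hi]
    simp [d]
  have hle : M ≤ M.comap (MulAut.conj (tor D A d)).toMonoidHom := sup_le
    (fun z hz => (le_sup_left : X ≤ M) (hXB _ (tor_mem_borel g d) z hz))
    (fun z hz => (le_sup_right : _ ≤ M) (conj_UP_le (acts_tor g d) (fun r hr => hr.1.1.1)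
      (fun r u hr => xG_mem_UP g hr u) hz))
  have h1 : tor D A d * xG g (D.simple i) c' * (tor D A d)⁻¹ ∈ M := hle hM
  rwa [tor_conj_xG g d (g.simple_lt i hi), hd, Units.val_zpow_eq_zpow_val, Units.val_mk0,
    zpow_ofNat] at h1

/-- commutators with `U_J` -/
theorem comm_mem_step (hXU : X ≤ D.posUnipotent F)
    (hXB : ∀ b ∈ D.borelSubgroup F, ∀ z ∈ X, b * z * b⁻¹ ∈ X) {k : ℕ}
    (hk : UP F h.std.good (OutJ D A J) ≤ X ⊔ UP F h.std.good (Lvl D A J k)) {z w : GL D.Idx F}
    (hz : z ∈ UP F h.std.good (OutJ D A J)) (hw : w ∈ D.posUnipotent F) :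
    z * w * z⁻¹ * w⁻¹ ∈ X ⊔ UP F h.std.good (Lvl D A J (k + 1)) := by
  have g := h.std.good
  set M := X ⊔ UP F g (Lvl D A J (k + 1))
  have hMn : ∀ y ∈ D.posUnipotent F, M ≤ M.comap (MulAut.conj y).toMonoidHom := fun y hy => sup_le
    (fun z hz => (le_sup_left : X ≤ M) (hXB y (pos_le_borel hy) z hz))
    (fun z hz => (le_sup_right : _ ≤ M) (upward_normal h.std (upward_lvl g J (k + 1)) hy hz))
  let Z : Subgroup (GL D.Idx F) :=
    { carrier := {z | z ∈ D.posUnipotent F ∧ ∀ w ∈ D.posUnipotent F, z * w * z⁻¹ * w⁻¹ ∈ M}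
      one_mem' := ⟨one_mem _, fun w _ => by simp [one_mem]⟩
      mul_mem' := fun {a b} ha hb => ⟨mul_mem ha.1 hb.1, fun w hw => by
        rw [show a * b * w * (a * b)⁻¹ * w⁻¹ =
          (a * (b * w * b⁻¹ * w⁻¹) * a⁻¹) * (a * w * a⁻¹ * w⁻¹) by group]
        exact mul_mem (hMn a ha.1 (hb.2 w hw)) (ha.2 w hw)⟩
      inv_mem' := fun {a} ha => ⟨inv_mem ha.1, fun w hw => by
        rw [show a⁻¹ * w * a⁻¹⁻¹ * w⁻¹ = a⁻¹ * (a * w * a⁻¹ * w⁻¹)⁻¹ * a⁻¹⁻¹ by group]
        exact hMn a⁻¹ (inv_mem ha.1) (inv_mem (ha.2 w hw))⟩ }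
  have hle : X ⊔ UP F g (Lvl D A J k) ≤ Z := sup_le
    (fun z hz => ⟨hXU hz, fun w hw => by
      rw [show z * w * z⁻¹ * w⁻¹ = z * (w * z⁻¹ * w⁻¹) by group]
      exact (le_sup_left : X ≤ M) (mul_mem hz (hXB w (pos_le_borel hw) _ (inv_mem hz)))⟩)
    (UP_le fun r t hr => ⟨xG_mem_posUnipotent g hr.1.1 t, fun w hw =>
      (le_sup_right : _ ≤ M) (lvl_comm h.std hr t hw)⟩)
  exact (hle (hk hz)).2 w hw

/-- a root of height `k` from a pair below it -/
theorem step_root [Finite F] {big : Bool} (hgen : genCheck D A big = true)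
    (hbig : big = true → 4 ≤ Nat.card F) (hXU : X ≤ D.posUnipotent F)
    (hXB : ∀ b ∈ D.borelSubgroup F, ∀ z ∈ X, b * z * b⁻¹ ∈ X) {k : ℕ} (hk2 : 2 ≤ k)
    (hk : UP F h.std.good (OutJ D A J) ≤ X ⊔ UP F h.std.good (Lvl D A J k)) {r : ℕ}
    (hr : OutJ D A J r) (hht : ht D A r = k) (t : F) :
    xG h.std.good r t ∈ X ⊔ UP F h.std.good (Lvl D A J (k + 1)) := by
  classical
  haveI := Fintype.ofFinite F
  have g := h.std.good
  set M := X ⊔ UP F g (Lvl D A J (k + 1))
  simp only [genCheck, List.all_eq_true, List.mem_range, Bool.or_eq_true, Bool.not_eq_true',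
    decide_eq_false_iff_not, decide_eq_true_eq] at hgen
  obtain ⟨c, hc, hc0⟩ := gcd_foldr_ne_zero (F := F) _ ((hgen r hr.1.1).resolve_left (by omega))
  simp only [coefs, List.mem_flatMap, List.mem_range] at hc
  obtain ⟨j, hj, a, -, hca⟩ := hc
  unfold pairCoef at hca
  rcases hcond : (decide (a < D.nroots) && ((List.range D.rank).all fun l => decide (0 ≤ A.a a l)) &&
      !(a == D.simple j) && !(a == A.neg (D.simple j))) with _ | _
  · rw [hcond] at hca; simp at hca
  rw [hcond, cond_true] at hca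
  simp only [Bool.and_eq_true, List.all_eq_true, List.mem_range, decide_eq_true_eq, Bool.not_eq_true',
    beq_eq_false_iff_ne, ne_eq] at hcond
  obtain ⟨⟨⟨halt, hanon⟩, hap⟩, han⟩ := hcond
  set p := D.simple j with hp
  have hppos : D.IsPosRoot p := simple_pos g hj
  have hapos : D.IsPosRoot a := (g.pos_iff a halt).2 fun l => by
    by_cases hl : l < D.rank
    · exact hanon l hl
    · rw [g.a_zero a halt l (not_lt.1 hl)]
  -- `M` inside `U`
  let U := D.posUnipotent F
  let N := M.subgroupOf U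
  haveI : N.Normal := ⟨fun x hx y => by
    rw [Subgroup.mem_subgroupOf] at hx ⊢
    have hle : M ≤ M.comap (MulAut.conj (y : GL D.Idx F)).toMonoidHom := sup_le
      (fun z hz => (le_sup_left : X ≤ M) (hXB _ (pos_le_borel y.2) z hz))
      (fun z hz => (le_sup_right : _ ≤ M) (upward_normal h.std (upward_lvl g J (k + 1)) y.2 hz))
    exact hle hx⟩
  let x' : ℕ → F → U := fun q u => if hq : D.IsPosRoot q then ⟨xG g q u, xG_mem_posUnipotent g hq u⟩ else 1
  let ψ : ℕ → F → U ⧸ N := fun q u => QuotientGroup.mk (x' q u)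
  have hx'val : ∀ q u, D.IsPosRoot q → ((x' q u : U) : GL D.Idx F) = xG g q u := fun q u hq => by
    simp only [x', dif_pos hq]
  have hψadd : ∀ q u v, D.IsPosRoot q → ψ q u * ψ q v = ψ q (u + v) := fun q u v hq => by
    simp only [ψ, ← QuotientGroup.mk_mul]
    congr 1
    apply Subtype.ext
    rw [Subgroup.coe_mul, hx'val q u hq, hx'val q v hq, hx'val q _ hq, xG_add]
  suffices hgoal : ψ r t = 1 by
    simp only [ψ, QuotientGroup.eq_one_iff, N, Subgroup.mem_subgroupOf] at hgoal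
    rwa [hx'val r t hr.1] at hgoal
  have hor : OutJ D A J p ∨ OutJ D A J a := by
    obtain ⟨q, hq, rfl⟩ : ∃ q ∈ A.terms p a, q.1 = r := by
      split at hca
      · next r₁ c₁ heq =>
        rcases hr1 : (r₁ == r) with _ | _
        · rw [hr1] at hca; simp at hca
        exact ⟨(r₁, c₁, 1, 1), List.mem_of_mem_filter (heq ▸ List.mem_singleton_self _), by simpa using hr1⟩
      · next r₀ c₀ r₁ c₁ heq =>
        rcases hr1 : (big && r₁ == r) with _ | _
        · rw [hr1] at hca; simp at hca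
        have hmf : (r₁, c₁, 2, 1) ∈ (A.terms p a).filter (fun q => decide (ht D A q.1 ≤ ht D A r)) := by
          rw [heq]; simp
        exact ⟨_, List.mem_of_mem_filter hmf, (by simpa using hr1 : _ ∧ _).2⟩
      · next r₀ c₀ r' c' r₁ c₁ heq =>
        rcases hr1 : (big && r₁ == r) with _ | _
        · rw [hr1] at hca; simp at hca
        have hmf : (r₁, c₁, 3, 1) ∈ (A.terms p a).filter (fun q => decide (ht D A q.1 ≤ ht D A r)) := by
          rw [heq]; simp
        exact ⟨_, List.mem_of_mem_filter hmf, (by simpa using hr1 : _ ∧ _).2⟩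
      · simp at hca
    obtain ⟨-, l, hl, hlJ, hlp⟩ := hr
    obtain ⟨-, -, -, he⟩ := terms_mem g hppos.1 halt hq
    rw [he l hl] at hlp
    by_contra hcon
    simp only [OutJ, not_or, not_and, not_exists, not_lt] at hcon
    nlinarith [hcon.1 hppos l hl hlJ, hcon.2 hapos l hl hlJ, Int.natCast_nonneg q.2.2.1, Int.natCast_nonneg q.2.2.2]
  -- roots of the terms
  have hterm : ∀ q ∈ A.terms p a, D.IsPosRoot q.1 ∧ ((k : ℤ) < ht D A q.1 → ∀ u, ψ q.1 u = 1) := by
    intro q hq
    obtain ⟨h1, h2, h3, h4⟩ := terms_mem g hppos.1 halt hq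
    obtain ⟨hqp, -, -, -, -⟩ := term_pos g hppos hapos h1 h3 h4
    refine ⟨hqp, fun hlt u => ?_⟩
    have hout : OutJ D A J p ∨ OutJ D A J a → OutJ D A J q.1 := outJ_up g hppos hapos h1 h2 h3 h4
    simp only [ψ, QuotientGroup.eq_one_iff, N, Subgroup.mem_subgroupOf]
    rw [hx'val q.1 u hqp]
    refine (le_sup_right : _ ≤ M) (xG_mem_UP g ⟨hout ?_, by push_cast; omega⟩ u)
    exact hor
  have key : ∀ τ u : F, (((A.terms p a).filter fun q => decide (ht D A q.1 ≤ ht D A r)).map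
      fun q => ψ q.1 ((q.2.1 : F) * τ ^ q.2.2.1 * u ^ q.2.2.2)).prod = 1 := by
    intro τ u
    have hfil : ∀ L : List (ℕ × ℤ × ℕ × ℕ), (∀ q ∈ L, q ∈ A.terms p a) →
        ((L.filter fun q => decide (ht D A q.1 ≤ ht D A r)).map
          fun q => ψ q.1 ((q.2.1 : F) * τ ^ q.2.2.1 * u ^ q.2.2.2)).prod =
        (L.map fun q => ψ q.1 ((q.2.1 : F) * τ ^ q.2.2.1 * u ^ q.2.2.2)).prod := by
      intro L hL
      induction L with
      | nil => rfl
      | cons q L ih =>
        rw [List.filter_cons, List.map_cons, List.prod_cons]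
        split_ifs with hd
        · rw [List.map_cons, List.prod_cons, ih fun q' hq' => hL q' (by simp [hq'])]
        · rw [(hterm q (hL q (by simp))).2 (by simp only [decide_eq_true_eq] at hd; omega), one_mul,
            ih fun q' hq' => hL q' (by simp [hq'])]
    rw [hfil _ fun _ hq => hq]
    set W : GL D.Idx F := ((tword A p a (-τ) u).map fun q => xG g q.1 q.2).prod with hW
    have hWval : (W : Matrix D.Idx D.Idx F) = D.wordMat F (tword A p a (-τ) u) := by
      rw [hW]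
      induction tword A p a (-τ) u with
      | nil => simp [wordMat_nil]
      | cons q w ih => rw [List.map_cons, List.prod_cons, Units.val_mul, wordMat_cons, ih, xG_val]
    have e : xG g a u * xG g p (-τ) = xG g p (-τ) * xG g a u * W := by
      apply Units.ext
      simp only [Units.val_mul, xG_val, hWval]
      exact commF_all h.std hppos.1 halt hap han (-τ) u
    have e' : W = (xG g a u)⁻¹ * (xG g p (-τ))⁻¹ * (xG g a u)⁻¹⁻¹ * (xG g p (-τ))⁻¹⁻¹ := by
      rw [inv_inv, inv_inv, mul_assoc, e]; group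
    have hWM : W ∈ M := by
      rcases hor with ho | ho
      · rw [e', ← inv_inv ((xG g a u)⁻¹ * _ * _ * _)]
        refine inv_mem ?_
        rw [show ((xG g a u)⁻¹ * (xG g p (-τ))⁻¹ * (xG g a u)⁻¹⁻¹ * (xG g p (-τ))⁻¹⁻¹)⁻¹ =
          (xG g p (-τ))⁻¹ * (xG g a u)⁻¹ * (xG g p (-τ))⁻¹⁻¹ * (xG g a u)⁻¹⁻¹ by group]
        exact comm_mem_step h hXU hXB hk (inv_mem (xG_mem_UP g ho _)) (inv_mem (xG_mem_posUnipotent g hapos _))
      · rw [e']
        exact comm_mem_step h hXU hXB hk (inv_mem (xG_mem_UP g ho _)) (inv_mem (xG_mem_posUnipotent g hppos _))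
    have hprod : ((A.terms p a).map fun q => ψ q.1 ((q.2.1 : F) * τ ^ q.2.2.1 * u ^ q.2.2.2)).prod =
        QuotientGroup.mk' N ((A.terms p a).map fun q => x' q.1 ((q.2.1 : F) * τ ^ q.2.2.1 * u ^ q.2.2.2)).prod := by
      rw [map_list_prod, List.map_map]; rfl
    rw [hprod, QuotientGroup.mk'_apply, QuotientGroup.eq_one_iff, Subgroup.mem_subgroupOf]
    convert hWM using 1
    rw [hW, tword, List.map_map, ← Subgroup.coe_subtype, map_list_prod, List.map_map]
    congr 1
    refine List.map_congr_left fun q hq => ?_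
    simp only [Function.comp_apply, Subgroup.coe_subtype, neg_neg]
    exact hx'val _ _ (hterm q hq).1
  -- cancellation
  have hzero : ∀ q, D.IsPosRoot q → ψ q 0 = 1 := fun q hq => by
    have := hψadd q 0 0 hq
    rwa [add_zero, mul_eq_left] at this
  have hsub : ∀ q u v, D.IsPosRoot q → ψ q (u - v) = ψ q u * (ψ q v)⁻¹ := fun q u v hq => by
    rw [eq_mul_inv_iff_mul_eq, hψadd q _ _ hq, sub_add_cancel]
  have hsub' : ∀ q u v, D.IsPosRoot q → ψ q (u - v) = (ψ q v)⁻¹ * ψ q u := fun q u v hq => by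
    rw [eq_inv_mul_iff_mul_eq, hψadd q _ _ hq, add_sub_cancel]
  obtain hmem : ∀ q ∈ (A.terms p a).filter (fun q => decide (ht D A q.1 ≤ ht D A r)), D.IsPosRoot q.1 :=
    fun q hq => (hterm q (List.mem_of_mem_filter hq)).1
  split at hca
  · next r₁ c₁ heq =>
    rw [heq] at key
    rcases hr1 : (r₁ == r) with _ | _
    · rw [hr1] at hca; simp at hca
    rw [hr1, cond_true, List.mem_singleton] at hca
    obtain rfl : r₁ = r := by simpa using hr1
    subst hca
    have := key 1 (t / c)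
    simp only [List.map_cons, List.map_nil, List.prod_cons, List.prod_nil, mul_one, pow_one] at this
    rwa [mul_div_cancel₀ t hc0] at this
  · next r₀ c₀ r₁ c₁ heq =>
    rw [heq] at key hmem
    rcases hr1 : (big && r₁ == r) with _ | _
    · rw [hr1] at hca; simp at hca
    rw [hr1, cond_true, List.mem_singleton] at hca
    simp only [Bool.and_eq_true, beq_iff_eq] at hr1
    obtain ⟨hb, rfl⟩ := hr1
    subst hca
    have h4 := hbig hb
    have h0p : D.IsPosRoot r₀ := hmem (r₀, c₀, 1, 1) (by simp)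
    obtain ⟨τ, hτ⟩ : ∃ τ : F, τ ∉ ({0, 1} : Finset F) :=
      Finset.exists_mem_notMem_of_card_lt_card (t := Finset.univ) (by
        rw [Finset.card_univ, ← Nat.card_eq_fintype_card]
        exact (Finset.card_le_two).trans_lt (by omega)) |>.imp fun _ h => h.2
    simp only [Finset.mem_insert, Finset.mem_singleton, not_or] at hτ
    set v := t / c / (τ * (τ - 1))
    have e1 := key τ v
    have e2 := key 1 (τ * v)
    simp only [List.map_cons, List.map_nil, List.prod_cons, List.prod_nil, mul_one, pow_one, one_pow] at e1 e2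
    rw [show (c₀ : F) * τ * v = c₀ * (τ * v) by ring] at e1
    have e3 : ψ r₁ ((c : F) * τ ^ 2 * v) = ψ r₁ ((c : F) * (τ * v)) :=
      mul_left_cancel (e1.trans e2.symm)
    have hden : τ * (τ - 1) ≠ 0 := mul_ne_zero hτ.1 (sub_ne_zero.2 hτ.2)
    have ht' : (c : F) * τ ^ 2 * v - (c : F) * (τ * v) = t := by
      rw [show (c : F) * τ ^ 2 * v - (c : F) * (τ * v) = (c : F) * (τ * (τ - 1)) * v by ring]
      simp only [v]
      rw [mul_assoc, mul_div_cancel₀ _ hden, mul_div_cancel₀ _ hc0]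
    rw [← ht', hsub r₁ _ _ hr.1, e3, mul_inv_cancel]
  · next r₀ c₀ r' c' r₁ c₁ heq =>
    rw [heq] at key hmem
    rcases hr1 : (big && r₁ == r) with _ | _
    · rw [hr1] at hca; simp at hca
    rw [hr1, cond_true, List.mem_singleton] at hca
    simp only [Bool.and_eq_true, beq_iff_eq] at hr1
    obtain ⟨hb, rfl⟩ := hr1
    subst hca
    have h4 := hbig hb
    have h0p : D.IsPosRoot r₀ := hmem (r₀, c₀, 1, 1) (by simp)
    have h'p : D.IsPosRoot r' := hmem (r', c', 2, 1) (by simp)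
    -- with the first term removed
    have e3 : ∀ τ v : F, ψ r' ((c' : F) * ((τ ^ 2 - τ) * v)) =
        ψ r₁ ((c : F) * τ * v - (c : F) * τ ^ 3 * v) := by
      intro τ v
      have e1 := key τ v
      have e2 := key 1 (τ * v)
      simp only [List.map_cons, List.map_nil, List.prod_cons, List.prod_nil, mul_one, pow_one, one_pow] at e1 e2
      rw [show (c₀ : F) * τ * v = c₀ * (τ * v) by ring] at e1
      have e := mul_left_cancel (e1.trans e2.symm)
      rw [hsub r₁ _ _ hr.1, show (c' : F) * ((τ ^ 2 - τ) * v) = c' * τ ^ 2 * v - c' * (τ * v) by ring,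
        hsub' r' _ _ h'p, show (c : F) * τ * v = c * (τ * v) by ring, inv_mul_eq_iff_eq_mul, ← mul_assoc,
        eq_mul_inv_iff_mul_eq]
      exact e
    obtain ⟨τ, hτ⟩ : ∃ τ : F, τ ∉ ({0, 1} : Finset F) :=
      Finset.exists_mem_notMem_of_card_lt_card (t := Finset.univ) (by
        rw [Finset.card_univ, ← Nat.card_eq_fintype_card]
        exact (Finset.card_le_two).trans_lt (by omega)) |>.imp fun _ h => h.2
    obtain ⟨σ, hσ⟩ : ∃ σ : F, σ ∉ ({0, 1, τ} : Finset F) :=
      Finset.exists_mem_notMem_of_card_lt_card (t := Finset.univ) (by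
        rw [Finset.card_univ, ← Nat.card_eq_fintype_card]
        exact (Finset.card_le_three).trans_lt (by omega)) |>.imp fun _ h => h.2
    simp only [Finset.mem_insert, Finset.mem_singleton, not_or] at hτ hσ
    set w := t / c / (σ - τ)
    have hd1 : τ ^ 2 - τ ≠ 0 := by
      rw [show τ ^ 2 - τ = τ * (τ - 1) by ring]; exact mul_ne_zero hτ.1 (sub_ne_zero.2 hτ.2)
    have hd2 : σ ^ 2 - σ ≠ 0 := by
      rw [show σ ^ 2 - σ = σ * (σ - 1) by ring]; exact mul_ne_zero hσ.1 (sub_ne_zero.2 hσ.2.1)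
    have e4 := e3 τ (w / (τ ^ 2 - τ))
    have e5 := e3 σ (w / (σ ^ 2 - σ))
    rw [mul_div_cancel₀ w hd1] at e4
    rw [mul_div_cancel₀ w hd2] at e5
    have e6 := e4.symm.trans e5
    have ht' : ((c : F) * τ * (w / (τ ^ 2 - τ)) - (c : F) * τ ^ 3 * (w / (τ ^ 2 - τ))) -
        ((c : F) * σ * (w / (σ ^ 2 - σ)) - (c : F) * σ ^ 3 * (w / (σ ^ 2 - σ))) = t := by
      have hd3 : σ - τ ≠ 0 := sub_ne_zero.2 hσ.2.2
      rw [show (c : F) * τ * (w / (τ ^ 2 - τ)) - (c : F) * τ ^ 3 * (w / (τ ^ 2 - τ)) =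
          -(c : F) * (τ + 1) * ((τ ^ 2 - τ) * (w / (τ ^ 2 - τ))) by ring,
        show (c : F) * σ * (w / (σ ^ 2 - σ)) - (c : F) * σ ^ 3 * (w / (σ ^ 2 - σ)) =
          -(c : F) * (σ + 1) * ((σ ^ 2 - σ) * (w / (σ ^ 2 - σ))) by ring,
        mul_div_cancel₀ w hd1, mul_div_cancel₀ w hd2,
        show -(c : F) * (τ + 1) * w - -(c : F) * (σ + 1) * w = c * ((σ - τ) * w) by ring]
      simp only [w]
      rw [mul_div_cancel₀ _ hd3, mul_div_cancel₀ _ hc0]
    rw [← ht', hsub r₁ _ _ hr.1, e6, mul_inv_cancel]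
  · simp at hca

end Grow

end CfsgLib.Chev.WC
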